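import Groth.Prelude.Def_W4c3irrattreebunCvg
import Mathlib.FieldTheory.AlgebraicClosure
import Mathlib.FieldTheory.IntermediateField.Algebraic
import Mathlib.RingTheory.Algebraic.Integral

/-! Covering diagrams and the field of constants. -/

set_option autoImplicit false
set_option linter.style.haveILetI false

universe u

open W4c3irrattreebun IntermediateField

namespace Groth.Agent.Cvg5

variable {k K : Type u} [Field k] [Field K] [Algebra k K]

/-- A diagram over the constants is one over the base. -/
theorem exists_down {e : ℕ} (D : CovDiag.{u} (algebraicClosure k K) K e) :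
    ∃ D' : CovDiag.{u} k K e, D'.KC = D.KC ∧ (Algebra.IsSeparable K D.KC → Algebra.IsSeparable K D'.KC) := by
  letI : Algebra k D.KC := ((@algebraMap (algebraicClosure k K) D.KC _ _ D.algkC).comp (algebraMap k (algebraicClosure k K))).toAlgebra
  letI : Algebra k D.KB := ((@algebraMap (algebraicClosure k K) D.KB _ _ D.algkB).comp (algebraMap k (algebraicClosure k K))).toAlgebra
  haveI : IsScalarTower k K D.KC := IsScalarTower.of_algebraMap_eq fun x => by
    show @algebraMap (algebraicClosure k K) D.KC _ _ D.algkC (algebraMap k _ x) = _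
    rw [@IsScalarTower.algebraMap_apply _ K D.KC _ _ _ _ D.algKC D.algkC D.towerK]
    rfl
  haveI : IsScalarTower k D.KB D.KC := IsScalarTower.of_algebraMap_eq fun x => by
    show @algebraMap (algebraicClosure k K) D.KC _ _ D.algkC (algebraMap k _ x) = _
    rw [@IsScalarTower.algebraMap_apply _ D.KB D.KC _ _ _ D.algkB D.algBC D.algkC D.towerB]
    rfl
  exact ⟨{ KC := D.KC, KB := D.KB, t := D.t, transc := D.transc, finrank_eq := D.finrank_eq }, rfl, fun h => h⟩

/-- A diagram over the base gives one over the constants of at most the same degree. -/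
theorem exists_up {e : ℕ} (D : CovDiag.{u} k K e) :
    ∃ e' ≤ e, ∃ D' : CovDiag.{u} (algebraicClosure k K) K e',
      Algebra.IsSeparable K D.KC → Algebra.IsSeparable K D'.KC := by
  let k' := algebraicClosure k K
  let f : k' →+* D.KC := algebraMap k' D.KC
  let B : IntermediateField D.KB D.KC := adjoin D.KB (Set.range f)
  letI : Algebra k' B := (f.codRestrict B.toSubalgebra fun x => subset_adjoin D.KB _ ⟨x, rfl⟩).toAlgebra
  haveI : IsScalarTower k' B D.KC := IsScalarTower.of_algebraMap_eq fun x => rfl
  have halg : ∀ y ∈ Set.range f, IsIntegral D.KB y := by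
    rintro _ ⟨x, rfl⟩
    have hx : IsIntegral k (x : K) := mem_algebraicClosure_iff'.1 x.2
    exact (hx.map (IsScalarTower.toAlgHom k K D.KC)).tower_top (A := D.KB)
  haveI : Algebra.IsAlgebraic D.KB B := isAlgebraic_adjoin halg
  have htr : Transcendental B D.t := fun h => D.transc (h.restrictScalars D.KB)
  have hle : adjoin D.KB ({D.t} : Set D.KC) ≤
      (adjoin B ({D.t} : Set D.KC)).restrictScalars D.KB := by
    rw [adjoin_le_iff]
    intro y hy
    exact subset_adjoin B _ hy
  let M : IntermediateField (adjoin D.KB ({D.t} : Set D.KC)) D.KC := extendScalars hle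
  haveI hfM : Module.Finite M D.KC := Module.Finite.of_restrictScalars_finite (adjoin D.KB ({D.t} : Set D.KC)) M D.KC
  haveI : Module.Finite (adjoin B ({D.t} : Set D.KC)) D.KC := hfM
  have hdeg : Module.finrank (adjoin B ({D.t} : Set D.KC)) D.KC ≤ e := by
    show Module.finrank M D.KC ≤ e
    refine le_of_le_of_eq ?_ D.finrank_eq
    rw [← Module.finrank_mul_finrank (adjoin D.KB ({D.t} : Set D.KC)) M D.KC]
    exact Nat.le_mul_of_pos_left _ Module.finrank_pos
  refine ⟨_, hdeg, { KC := D.KC, KB := B, t := D.t, transc := htr, finrank_eq := rfl }, fun h => h⟩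

end Groth.Agent.Cvg5
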